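import Groth.Agent.TopH1.Affine
import Groth.Agent.FibVan.Stalk
import Groth.Agent.DimField.Limit
import Groth.Agent.QC.Support
import Groth.Agent.S0403
import Groth.Prelude.Def_PicLoc

/-!
# Vanishing of the top cohomology near a fibre, and after base change
-/

set_option autoImplicit false
set_option backward.isDefEq.respectTransparency false
set_option backward.isDefEq.respectTransparency.types false
set_option linter.style.haveILetI false
set_option maxHeartbeats 1000000

universe u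

open CategoryTheory CategoryTheory.Limits AlgebraicGeometry Opposite TopologicalSpace

noncomputable section

namespace Groth.Agent.TopH1

variable {X Y : Scheme.{u}} (f : X ⟶ Y) [IsProper f]

/-- Over the local ring of the base. -/
theorem subsingleton_hh_local (y : Y) (d : ℕ) (hd : topologicalKrullDim ↥(f.fiber y) ≤ d)
    (h : Subsingleton (Coh.HH (f.fiber y) (Coh.structureModule (f.fiber y)) d)) :
    letI : (pullback f (Y.fromSpecStalk y)).Over (Spec (CommRingCat.of (Y.presheaf.stalk y))) :=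
      ⟨pullback.snd f (Y.fromSpecStalk y)⟩
    Subsingleton (Coh.HH (pullback f (Y.fromSpecStalk y)) (Coh.structureModule (pullback f (Y.fromSpecStalk y))) d) := by
  let σ := Y.fromSpecStalk y
  let X₁ := pullback f σ
  let R := Y.presheaf.stalk y
  letI : X₁.Over (Spec (CommRingCat.of R)) := ⟨pullback.snd f σ⟩
  have hsq : IsPullback (pullback.fst f σ) (X₁ ↘ Spec (CommRingCat.of R)) f σ := IsPullback.of_hasPullback f σ
  haveI : IsProper (X₁ ↘ Spec (CommRingCat.of R)) :=
    MorphismProperty.of_isPullback (P := @IsProper) hsq inferInstance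
  haveI : CompactSpace X₁ := QuasiCompact.compactSpace_of_compactSpace (X₁ ↘ Spec (CommRingCat.of R))
  have hvan : ∀ M : X₁.Modules, Coh.IsQCoh M → Subsingleton (Coh.HH X₁ M (d + 1)) := fun M hM => by
    haveI : M.IsQuasicoherent := hM
    exact FibVan.subsingleton_hh (B := R) (X := X₁) d (by
      refine le_of_eq_of_le ?_ hd
      rw [DimField.dim_fiber_eq_of_isPullback hsq]
      exact congrArg (fun z => topologicalKrullDim ↥(f.fiber z)) Scheme.fromSpecStalk_closedPoint) M (d + 1)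
      (Nat.lt_succ_self d)
  let k := Y.residueField y
  letI : Algebra R k := (Y.residue y).hom.toAlgebra
  letI : (f.fiber y).Over (Spec (CommRingCat.of k)) := ⟨f.fiberToSpecResidueField y⟩
  have hr : Spec.map (CommRingCat.ofHom (algebraMap R k)) ≫ σ = Y.fromSpecResidueField y := rfl
  have w : f.fiberι y ≫ f = (f.fiberToSpecResidueField y ≫ Spec.map (CommRingCat.ofHom (algebraMap R k))) ≫ σ := by
    rw [Category.assoc, hr]; exact pullback.condition
  let j : f.fiber y ⟶ X₁ := pullback.lift (f.fiberι y) (f.fiberToSpecResidueField y ≫ Spec.map (CommRingCat.ofHom (algebraMap R k))) w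
  have big : IsPullback (j ≫ pullback.fst f σ) ((f.fiber y) ↘ Spec (CommRingCat.of k)) f
      (Spec.map (CommRingCat.ofHom (algebraMap R k)) ≫ σ) := by
    rw [hr, pullback.lift_fst]
    exact IsPullback.of_hasPullback f (Y.fromSpecResidueField y)
  have sq := IsPullback.of_right big (pullback.lift_snd _ _ _) hsq
  have hs : Function.Surjective (algebraMap R k) := IsLocalRing.residue_surjective
  have hsmul := smul_top_eq R k j sq hs d hvan h
  haveI := FibVan.finite_hh_top R (X := X₁) d (fun b => ?_) (Coh.structureModule X₁) (Devissage.isCoh_unit X₁)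
  · refine subsingleton_of_smul_top R fun m hm => ?_
    have : RingHom.ker (algebraMap R k) = m := by
      rw [IsLocalRing.eq_maximalIdeal hm]
      exact IsLocalRing.ker_residue
    rw [← this]
    exact hsmul
  · rw [DimField.dim_fiber_eq_of_isPullback hsq]
    obtain ⟨U, hU, hyU⟩ : ∃ U : Y.Opens, (U : Set Y) = {z | topologicalKrullDim ↥(f.fiber z) ≤ (d : WithBot ℕ∞)} ∧ y ∈ U :=
      ⟨⟨_, S0403.result f (d : WithBot ℕ∞)⟩, rfl, hd⟩
    have hsp : σ b ⤳ y := by
      have := (IsLocalRing.specializes_closedPoint (R := R) b).map σ.continuous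
      rwa [Scheme.fromSpecStalk_closedPoint] at this
    exact (hU ▸ hsp.mem_open U.2 hyU : σ b ∈ {z | topologicalKrullDim ↥(f.fiber z) ≤ (d : WithBot ℕ∞)})

/-- The vanishing spreads to an affine neighbourhood. -/
theorem exists_nhd (y : Y) (d : ℕ) (hd : topologicalKrullDim ↥(f.fiber y) ≤ d)
    (h : Subsingleton (Coh.HH (f.fiber y) (Coh.structureModule (f.fiber y)) d)) :
    ∃ V : Y.Opens, y ∈ V ∧ IsAffineOpen V ∧ (∀ v ∈ V, topologicalKrullDim ↥(f.fiber v) ≤ (d : WithBot ℕ∞)) ∧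
      Subsingleton (Coh.HH (f ⁻¹ᵁ V).toScheme (Coh.structureModule (f ⁻¹ᵁ V).toScheme) d) := by
  haveI := RPushQC.hasInjectiveResolutions X
  let W : Y.Opens := ⟨_, S0403.result f (d : WithBot ℕ∞)⟩
  obtain ⟨V, hV, hyV, hVW⟩ := exists_isAffineOpen_mem_and_subset (X := Y) (x := y) (U := W) hd
  let O := Coh.structureModule X
  let R1 := (Coh.Rpush f d).obj O
  haveI hRq : R1.IsQuasicoherent := RPushQC.isQCoh_rpush f O (QC.isQCoh_unit X) d
  letI : (f ⁻¹ᵁ V).toScheme.Over (Spec (CommRingCat.of Γ(Y, V))) := ⟨(f ∣_ V) ≫ hV.isoSpec.hom⟩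
  haveI : IsProper ((f ⁻¹ᵁ V).toScheme ↘ Spec (CommRingCat.of Γ(Y, V))) :=
    inferInstanceAs (IsProper ((f ∣_ V) ≫ hV.isoSpec.hom))
  obtain ⟨ε⟩ := W7Cech.nonempty_rpush_sections f O (QC.isQCoh_unit X) d hV
  haveI : Module.Finite Γ(Y, V) (Coh.HH (f ⁻¹ᵁ V).toScheme (O.restrict (f ⁻¹ᵁ V).ι) d) := by
    refine FibVan.finite_hh_top _ d (fun b => ?_) _ ⟨QC.isQCoh_restrict _ (QC.isQCoh_unit X),
      QC.isFT_restrict _ (Devissage.isCoh_unit X).2⟩
    have hW : IsPullback (f ⁻¹ᵁ V).ι ((f ⁻¹ᵁ V).toScheme ↘ Spec (CommRingCat.of Γ(Y, V))) f hV.fromSpec :=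
      IsPullback.of_iso (isPullback_morphismRestrict f V).flip (Iso.refl _) (Iso.refl _) hV.isoSpec (Iso.refl _)
        ((Category.comp_id _).trans (Category.id_comp _).symm) ((Category.id_comp _).symm) (by simp) (by simp)
    rw [DimField.dim_fiber_eq_of_isPullback hW b]
    exact hVW (hV.range_fromSpec.subset ⟨b, rfl⟩)
  haveI : Module.Finite Γ(Y, V) Γ(R1, V) := Module.Finite.equiv ε.symm
  have hy : y ∉ CohB1.support R1 := fun hy => hy (by
    letI : (pullback f (Y.fromSpecStalk y)).Over (Spec (CommRingCat.of (Y.presheaf.stalk y))) :=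
      ⟨pullback.snd f (Y.fromSpecStalk y)⟩
    obtain ⟨e⟩ := W7Rees.nonempty_stalk_hh f O (QC.isQCoh_unit _) y d (pullback f (Y.fromSpecStalk y))
      (pullback.fst f (Y.fromSpecStalk y)) (IsPullback.of_hasPullback f (Y.fromSpecStalk y))
    haveI := CohQC.hh_subsingleton_of_iso (PicLoc.pullbackStructureIso (pullback.fst f (Y.fromSpecStalk y))).symm d
      (subsingleton_hh_local f y d hd h)
    exact e.toEquiv.subsingleton)
  have hp : hV.primeIdealOf ⟨y, hyV⟩ ∉ Module.support Γ(Y, V) Γ(R1, V) :=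
    fun hp => hy ((QC.mem_moduleSupport_iff hV hyV).1 hp)
  rw [Module.mem_support_iff_of_finite, SetLike.not_le_iff_exists] at hp
  obtain ⟨r, hr, hrp⟩ := hp
  have hV' := hV.basicOpen r
  have hyr : y ∈ Y.basicOpen r := by
    rw [← hV.fromSpec_image_basicOpen r]
    exact ⟨hV.primeIdealOf ⟨y, hyV⟩, hrp, hV.fromSpec_primeIdealOf ⟨y, hyV⟩⟩
  have hle : Y.basicOpen r ≤ V := Y.basicOpen_le r
  haveI hz : Subsingleton Γ(R1, Y.basicOpen r) := subsingleton_of_forall_eq 0 fun t => by
    obtain ⟨n, c, hc⟩ := (QC.isQCoh_iff_isLoc.1 hRq ⟨V, hV⟩).exists_extend r t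
    have hu : IsUnit (QC.resO Y hle r) := Y.toRingedSpace.isUnit_res_basicOpen r
    have h1 : QC.resO Y hle r • (QC.resO Y hle r ^ n • t) = 0 := by
      rw [← hc, ← QC.res_smul, Module.mem_annihilator.1 hr c, map_zero]
    rw [smul_smul, ← pow_succ'] at h1
    exact (IsUnit.smul_eq_zero (hu.pow _)).1 h1
  letI : (f ⁻¹ᵁ Y.basicOpen r).toScheme.Over (Spec (CommRingCat.of Γ(Y, Y.basicOpen r))) :=
    ⟨(f ∣_ Y.basicOpen r) ≫ hV'.isoSpec.hom⟩
  obtain ⟨ε'⟩ := W7Cech.nonempty_rpush_sections f O (QC.isQCoh_unit X) d hV'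
  exact ⟨Y.basicOpen r, hyr, hV', fun v hv => hVW (hle hv),
    CohQC.hh_subsingleton_of_iso (Scheme.Modules.restrictUnitIso _) d ε'.symm.toEquiv.subsingleton⟩

section BaseChange

variable (A B : Type u) [CommRing A] [CommRing B] [Algebra A B] {P Z : Scheme.{u}}
  [P.Over (Spec (CommRingCat.of A))] [IsProper (P ↘ Spec (CommRingCat.of A))] [Z.Over (Spec (CommRingCat.of B))]
  (j : Z ⟶ P)
  (sq : IsPullback j (Z ↘ Spec (CommRingCat.of B)) (P ↘ Spec (CommRingCat.of A))
    (Spec.map (CommRingCat.ofHom (algebraMap A B))))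

include sq in
/-- The generators of the pushed forward structure sheaf of a base change. -/
theorem epi_bcGen : Epi (Sigma.desc fun b : B =>
    ClSub.unitToPush j ≫ (Scheme.Modules.pushforward j).map (Formal.smulMod B (Coh.structureModule Z) b)) := by
  haveI := W7Cech.isAffineHom_bc A B j sq
  haveI := QC.isQCoh_unit Z
  haveI : Coh.IsQCoh ((Scheme.Modules.pushforward j).obj (Coh.structureModule Z)) := QC.isQCoh_pushforward j
  let φ := Sigma.desc fun b : B =>
    ClSub.unitToPush j ≫ (Scheme.Modules.pushforward j).map (Formal.smulMod B (Coh.structureModule Z) b)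
  refine ModDesc.epi_of_affine_cover φ (fun V : P.affineOpens => V.1) (fun V => V.2) (fun x => by
    obtain ⟨V, hV, hxV, -⟩ := exists_isAffineOpen_mem_and_subset (X := P) (U := ⊤) (x := x) trivial
    exact ⟨⟨V, hV⟩, hxV⟩) fun V c => ?_
  refine FibVan.secRing_span A B j sq V.2 (fun c => ∃ s, φ.app V.1 s = c) ⟨0, map_zero _⟩ ?_ ?_ c
  · rintro _ _ ⟨s, rfl⟩ ⟨t, rfl⟩
    exact ⟨s + t, map_add _ _ _⟩
  · intro b r
    refine ⟨(Sigma.ι (fun _ : B => Coh.structureModule P) b).app V.1 r, ?_⟩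
    let g : B → (Coh.structureModule P ⟶ (Scheme.Modules.pushforward j).obj (Coh.structureModule Z)) := fun b =>
      ClSub.unitToPush j ≫ (Scheme.Modules.pushforward j).map (Formal.smulMod B (Coh.structureModule Z) b)
    have e : Sigma.ι (fun _ : B => Coh.structureModule P) b ≫ Sigma.desc g = g b := Sigma.ι_desc g b
    exact congrArg (fun ψ : Coh.structureModule P ⟶ (Scheme.Modules.pushforward j).obj (Coh.structureModule Z) =>
      ψ.app V.1 r) e

include sq in
/-- The vanishing in top degree is stable under affine base change. -/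
theorem subsingleton_hh_bc (d : ℕ) (hvan : ∀ M : P.Modules, Coh.IsQCoh M → Subsingleton (Coh.HH P M (d + 1)))
    (h : Subsingleton (Coh.HH P (Coh.structureModule P) d)) :
    Subsingleton (Coh.HH Z (Coh.structureModule Z) d) := by
  haveI := W7Cech.isAffineHom_bc A B j sq
  haveI := QC.isQCoh_unit Z
  haveI := epi_bcGen A B j sq
  exact FibVan.subsingleton_hh_push j _ d (subsingleton_hh_of_generated A d hvan h (QC.isQCoh_pushforward j) B
    (Sigma.desc fun b : B =>
      ClSub.unitToPush j ≫ (Scheme.Modules.pushforward j).map (Formal.smulMod B (Coh.structureModule Z) b)))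

end BaseChange

section Pullback

/-- Vanishing over an affine open passes to affine opens of any base change mapping into it. -/
theorem subsingleton_hhon_of_le {V : Y.Opens} (hV : IsAffineOpen V) (d : ℕ)
    (hd : ∀ v ∈ V, topologicalKrullDim ↥(f.fiber v) ≤ (d : WithBot ℕ∞))
    (h : Subsingleton (Coh.HH (f ⁻¹ᵁ V).toScheme (Coh.structureModule (f ⁻¹ᵁ V).toScheme) d))
    {X' Y' : Scheme.{u}} {f' : X' ⟶ Y'} {g' : X' ⟶ X} {g : Y' ⟶ Y} (hc : IsPullback g' f' f g)
    {U : Y'.Opens} (hU : IsAffineOpen U) (hle : U ≤ g ⁻¹ᵁ V) :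
    Subsingleton (Coh.HHon X' (Coh.structureModule X') (f' ⁻¹ᵁ U) d) := by
  let W := f' ⁻¹ᵁ U
  let r : U.toScheme ⟶ V.toScheme := g.resLE V U hle
  have hr : r ≫ V.ι = U.ι ≫ g := g.resLE_comp_ι hle
  have big : IsPullback (W.ι ≫ g') (f' ∣_ U) f (r ≫ V.ι) := by
    rw [hr]
    exact (isPullback_morphismRestrict f' U).flip.paste_horiz hc
  have hXV := (isPullback_morphismRestrict f V).flip
  let j : W.toScheme ⟶ (f ⁻¹ᵁ V).toScheme := hXV.lift (W.ι ≫ g') ((f' ∣_ U) ≫ r) (by rw [Category.assoc]; exact big.w)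
  have hj : j ≫ (f ⁻¹ᵁ V).ι = W.ι ≫ g' := hXV.lift_fst _ _ _
  have sq₀ : IsPullback j (f' ∣_ U) (f ∣_ V) r := IsPullback.of_right (hj ▸ big) (hXV.lift_snd _ _ _) hXV
  letI : (f ⁻¹ᵁ V).toScheme.Over (Spec (CommRingCat.of Γ(Y, V))) := ⟨(f ∣_ V) ≫ hV.isoSpec.hom⟩
  letI : W.toScheme.Over (Spec (CommRingCat.of Γ(Y', U))) := ⟨(f' ∣_ U) ≫ hU.isoSpec.hom⟩
  haveI : IsProper ((f ⁻¹ᵁ V).toScheme ↘ Spec (CommRingCat.of Γ(Y, V))) :=
    inferInstanceAs (IsProper ((f ∣_ V) ≫ hV.isoSpec.hom))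
  let φ := hU.isoSpec.inv ≫ r ≫ hV.isoSpec.hom
  letI : Algebra Γ(Y, V) Γ(Y', U) := (Spec.preimage φ).hom.toAlgebra
  have hφ : Spec.map (CommRingCat.ofHom (algebraMap Γ(Y, V) Γ(Y', U))) = φ := Spec.map_preimage φ
  have sq : IsPullback j (W.toScheme ↘ Spec (CommRingCat.of Γ(Y', U)))
      ((f ⁻¹ᵁ V).toScheme ↘ Spec (CommRingCat.of Γ(Y, V)))
      (Spec.map (CommRingCat.ofHom (algebraMap Γ(Y, V) Γ(Y', U)))) := by
    rw [hφ]
    exact sq₀.of_iso (Iso.refl _) (Iso.refl _) hU.isoSpec hV.isoSpec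
      ((Category.comp_id _).trans (Category.id_comp _).symm) (Category.id_comp _).symm (Category.id_comp _).symm
      (by simp [φ])
  refine CohQC.hh_subsingleton_of_iso (Scheme.Modules.restrictUnitIso W.ι).symm d ?_
  refine subsingleton_hh_bc Γ(Y, V) Γ(Y', U) j sq d (fun M hM => ?_) h
  refine FibVan.subsingleton_hh_affine ((f ⁻¹ᵁ V).toScheme ↘ Spec (CommRingCat.of Γ(Y, V))) d (fun b => ?_) M hM (d + 1) (Nat.lt_succ_self d)
  have hW : IsPullback (f ⁻¹ᵁ V).ι ((f ⁻¹ᵁ V).toScheme ↘ Spec (CommRingCat.of Γ(Y, V))) f hV.fromSpec :=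
    IsPullback.of_iso hXV (Iso.refl _) (Iso.refl _) hV.isoSpec (Iso.refl _)
      ((Category.comp_id _).trans (Category.id_comp _).symm) ((Category.id_comp _).symm) (by simp) (by simp)
  rw [DimField.dim_fiber_eq_of_isPullback hW b]
  exact hd _ (hV.range_fromSpec.subset ⟨b, rfl⟩)

end Pullback

end Groth.Agent.TopH1
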