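import Groth.Agent.TopH1.Near
import Groth.Agent.PnReg.Sections
import Groth.Agent.HomColim.Coprod

/-!
# Surjectivity on global functions after affine base change
-/

set_option autoImplicit false
set_option backward.isDefEq.respectTransparency false
set_option backward.isDefEq.respectTransparency.types false
set_option linter.style.haveILetI false
set_option linter.unusedSectionVars false
set_option maxHeartbeats 1000000
set_option synthInstance.maxHeartbeats 100000

universe u

open CategoryTheory CategoryTheory.Limits AlgebraicGeometry Opposite TopologicalSpace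
open scoped TensorProduct

noncomputable section

namespace Groth.Agent.TopH1

/-- Additive maps out of the sections of a direct sum over a quasi-compact open agree if they agree on the summands. -/
theorem sections_coproduct_ext {X : Scheme.{u}} {V : X.Opens} (hV : IsCompact (V : Set X)) {α : Type u}
    (M : α → X.Modules) {N : Type u} [AddCommGroup N] (f g : Γ(∐ M, V) →+ N)
    (h : ∀ a x, f ((Sigma.ι M a).app V x) = g ((Sigma.ι M a).app V x)) : f = g := by
  have hp := HomColim.preservesCoproducts_sections (O := X.sheaf) α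
    (HomColim.finRefines_of_isCompact (X := X.toTopCat) (U := V) hV)
  let G := SheafOfModules.toSheaf (ModSite.ringSh X.sheaf) ⋙
    (sheafSections (Opens.grothendieckTopology X.toTopCat) AddCommGrpCat.{u}).obj (op V)
  haveI : PreservesColimit (Discrete.functor M) G := hp.preservesColimit
  have hc := isColimitOfPreserves G (colimit.isColimit (Discrete.functor M))
  have := hc.hom_ext (f := AddCommGrpCat.ofHom f) (f' := AddCommGrpCat.ofHom g) fun ⟨a⟩ => by
    ext x
    exact h a x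
  exact congrArg AddCommGrpCat.Hom.hom this

variable (A B : Type u) [CommRing A] [CommRing B] [Algebra A B] {P Z : Scheme.{u}}
  [P.Over (Spec (CommRingCat.of A))] [Z.Over (Spec (CommRingCat.of B))]
  (j : Z ⟶ P)
  (sq : IsPullback j (Z ↘ Spec (CommRingCat.of B)) (P ↘ Spec (CommRingCat.of A))
    (Spec.map (CommRingCat.ofHom (algebraMap A B))))

include sq in
/-- A biadditive balanced pairing on sections factors through the sections of the base change. -/
theorem exists_factor {V : P.Opens} (hV : IsAffineOpen V) {N : Type u} [AddCommGroup N]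
    (β : B → Γ(P, V) →+ N) (hadd : ∀ b b' x, β (b + b') x = β b x + β b' x)
    (hsmul : ∀ (a : A) b x, β (a • b) x = β b (W7Cech.secRing A V a * x)) :
    ∃ L : Γ(Z, j ⁻¹ᵁ V) →+ N, ∀ b x, L (W7Cech.secRing B (j ⁻¹ᵁ V) b * (j.app V).hom x) = β b x := by
  haveI := W7Cech.isAffineHom_bc A B j sq
  let π := P ↘ Spec (CommRingCat.of A)
  let π' := Z ↘ Spec (CommRingCat.of B)
  let h := Spec.map (CommRingCat.ofHom (algebraMap A B))
  have eV : V ≤ π ⁻¹ᵁ ⊤ := le_top
  have eO : (⊤ : (Spec (CommRingCat.of B)).Opens) ≤ h ⁻¹ᵁ ⊤ := le_top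
  have hUW : j ⁻¹ᵁ V = j ⁻¹ᵁ V ⊓ π' ⁻¹ᵁ ⊤ := le_antisymm (le_inf le_rfl le_top) inf_le_left
  have hP := (isIso_pushoutSection_iff sq eO eV hUW).1
    (isIso_pushoutSection_of_isAffineOpen sq eO eV hUW (isAffineOpen_top _) (isAffineOpen_top _) hV)
  letI : Algebra A ↑Γ(P, V) := (W7Cech.secRing A V).toAlgebra
  letI : Algebra B ↑Γ(Z, j ⁻¹ᵁ V) := (W7Cech.secRing B (j ⁻¹ᵁ V)).toAlgebra
  letI : Algebra ↑Γ(P, V) ↑Γ(Z, j ⁻¹ᵁ V) := (j.app V).hom.toAlgebra
  letI : Algebra A ↑Γ(Z, j ⁻¹ᵁ V) := ((algebraMap B ↑Γ(Z, j ⁻¹ᵁ V)).comp (algebraMap A B)).toAlgebra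
  haveI : IsScalarTower A B ↑Γ(Z, j ⁻¹ᵁ V) := IsScalarTower.of_algebraMap_eq fun _ => rfl
  haveI : IsScalarTower A ↑Γ(P, V) ↑Γ(Z, j ⁻¹ᵁ V) :=
    IsScalarTower.of_algebraMap_eq fun a => (W7Cech.secRing_comm A B j sq V a).symm
  haveI hpush : Algebra.IsPushout A B ↑Γ(P, V) ↑Γ(Z, j ⁻¹ᵁ V) := by
    refine CommRingCat.isPushout_iff_isPushout.1 ?_
    refine IsPushout.of_iso hP.flip (Scheme.ΓSpecIso (CommRingCat.of A))
      (Scheme.ΓSpecIso (CommRingCat.of B)) (Iso.refl _) (Iso.refl _) ?_ ?_ ?_ ?_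
    · change h.appLE ⊤ ⊤ eO ≫ _ = _
      rw [show h.appLE ⊤ ⊤ eO = h.appTop from h.app_eq_appLE.symm]
      exact Scheme.ΓSpecIso_naturality (CommRingCat.ofHom (algebraMap A B))
    · rw [← cancel_epi (Scheme.ΓSpecIso (CommRingCat.of A)).inv]
      ext a
      simp only [Iso.refl_hom, Category.comp_id, Iso.inv_hom_id_assoc]
      rfl
    · rw [← cancel_epi (Scheme.ΓSpecIso (CommRingCat.of B)).inv]
      ext a
      simp only [Iso.refl_hom, Category.comp_id, Iso.inv_hom_id_assoc]
      rfl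
    · simp only [Iso.refl_hom, Category.comp_id, Category.id_comp]
      exact (j.app_eq_appLE).symm
  let L₀ : B ⊗[A] Γ(P, V) →+ N := TensorProduct.liftAddHom
    (AddMonoidHom.mk' β fun b b' => AddMonoidHom.ext fun x => hadd b b' x) fun a b x => by
      show β (a • b) x = β b (a • x)
      rw [hsmul]
      rfl
  let E := (hpush.out : IsBaseChange B (IsScalarTower.toAlgHom A ↑Γ(P, V) ↑Γ(Z, j ⁻¹ᵁ V)).toLinearMap).equiv
  refine ⟨L₀.comp E.symm.toLinearMap.toAddMonoidHom, fun b x => ?_⟩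
  show L₀ (E.symm (W7Cech.secRing B (j ⁻¹ᵁ V) b * (j.app V).hom x)) = β b x
  rw [show W7Cech.secRing B (j ⁻¹ᵁ V) b * (j.app V).hom x = E (b ⊗ₜ x) from
    ((IsBaseChange.equiv_tmul _ b x).trans (Algebra.smul_def b _)).symm, LinearEquiv.symm_apply_apply]
  rfl

include sq in
/-- Global functions of an affine base change are generated by the base. -/
theorem surjective_secRing_bc [IsProper (P ↘ Spec (CommRingCat.of A))]
    (hvan : ∀ M : P.Modules, Coh.IsQCoh M → Subsingleton (Coh.HH P M 2))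
    (h : Subsingleton (Coh.HH P (Coh.structureModule P) 1)) (hA : Function.Surjective (W7Cech.secRing A (⊤ : P.Opens))) :
    Function.Surjective (W7Cech.secRing B (j ⁻¹ᵁ (⊤ : P.Opens))) := by
  haveI : CompactSpace P := QuasiCompact.compactSpace_of_compactSpace (P ↘ Spec (CommRingCat.of A))
  haveI : QuasiSeparatedSpace P := quasiSeparatedSpace_of_quasiSeparated (P ↘ Spec (CommRingCat.of A))
  haveI := W7Cech.isAffineHom_bc A B j sq
  haveI := QC.isQCoh_unit Z
  let O := Coh.structureModule P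
  let T := (Scheme.Modules.pushforward j).obj (Coh.structureModule Z)
  haveI hT : Coh.IsQCoh T := QC.isQCoh_pushforward j
  let g : B → (O ⟶ T) := fun b =>
    ClSub.unitToPush j ≫ (Scheme.Modules.pushforward j).map (Formal.smulMod B (Coh.structureModule Z) b)
  let F₀ := ∐ fun _ : B => O
  let ι : B → (O ⟶ F₀) := fun b => Sigma.ι (fun _ : B => O) b
  let φ : F₀ ⟶ T := Sigma.desc g
  have hι : ∀ b, ι b ≫ φ = g b := fun b => Sigma.ι_desc g b
  have hg : ∀ b (V : P.Opens) (x : Γ(P, V)), (g b).app V x = W7Cech.secRing B (j ⁻¹ᵁ V) b * (j.app V).hom x :=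
    fun _ _ _ => rfl
  have hsc : ∀ (a : A) (V : P.Opens) (x : Γ(P, V)),
      (Formal.smulMod A O a).app V x = W7Cech.secRing A V a * x := fun _ _ _ => rfl
  let r : (B × B) ⊕ (A × B) → (O ⟶ F₀) := fun i => i.elim (fun p => ι (p.1 + p.2) - ι p.1 - ι p.2)
    (fun p => ι (p.1 • p.2) - Formal.smulMod A O p.1 ≫ ι p.2)
  let ψ : (∐ fun _ : (B × B) ⊕ (A × B) => O) ⟶ F₀ := Sigma.desc r
  have hq₁ : Coh.IsQCoh F₀ := QC.isQCoh_colimit _ fun _ => QC.isQCoh_unit P
  have hq₂ : Coh.IsQCoh (∐ fun _ : (B × B) ⊕ (A × B) => O) := QC.isQCoh_colimit _ fun _ => QC.isQCoh_unit P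
  have hw : ψ ≫ φ = 0 := Sigma.hom_ext _ _ fun i => by
    rw [Sigma.ι_desc_assoc, comp_zero]
    rcases i with ⟨b, b'⟩ | ⟨a, b⟩
    · show (ι (b + b') - ι b - ι b') ≫ φ = 0
      rw [Preadditive.sub_comp, Preadditive.sub_comp, hι, hι, hι, sub_sub, sub_eq_zero]
      refine Scheme.Modules.hom_ext _ _ fun V => ?_
      ext x
      show (g (b + b')).app V x = (g b).app V x + (g b').app V x
      rw [hg, hg, hg, map_add, add_mul]
    · show (ι (a • b) - Formal.smulMod A O a ≫ ι b) ≫ φ = 0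
      rw [Preadditive.sub_comp, Category.assoc, hι, hι, sub_eq_zero]
      refine Scheme.Modules.hom_ext _ _ fun V => ?_
      ext x
      show (g (a • b)).app V x = (g b).app V ((Formal.smulMod A O a).app V x)
      rw [hsc, hg, hg, map_mul, Algebra.smul_def, map_mul, W7Cech.secRing_comm A B j sq]
      have key : ∀ u v w : Γ(Z, j ⁻¹ᵁ V), u * v * w = v * (u * w) := fun u v w => by ring
      exact key _ _ _
  let θ : cokernel ψ ⟶ T := cokernel.desc ψ φ hw
  have hC : Coh.IsQCoh (cokernel ψ) := QC.isQCoh_cokernel hq₂ hq₁ ψ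
  haveI : IsIso θ := ModDesc.isIso_of_affine_cover hC hT θ (fun V : P.affineOpens => V.1) (fun V => V.2)
    (fun x => by
      obtain ⟨V, hV, hxV, -⟩ := exists_isAffineOpen_mem_and_subset (X := P) (U := ⊤) (x := x) trivial
      exact ⟨⟨V, hV⟩, hxV⟩) fun ⟨V, hV⟩ => by
    let β : B → Γ(P, V) →+ Γ(cokernel ψ, V) := fun b => ((ι b ≫ cokernel.π ψ).app V).hom
    have hrel : ∀ i x, (r i ≫ cokernel.π ψ).app V x = (0 : O ⟶ cokernel ψ).app V x := fun i x => by
      rw [show r i = Sigma.ι (fun _ : (B × B) ⊕ (A × B) => O) i ≫ ψ from (Sigma.ι_desc r i).symm, Category.assoc,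
        cokernel.condition, comp_zero]
    obtain ⟨L, hL⟩ := exists_factor A B j sq hV β (fun b b' x => by
      have := hrel (.inl (b, b')) x
      simp only [r, Sum.elim_inl, Preadditive.sub_comp] at this
      rw [← sub_eq_zero, ← sub_sub]
      exact this) (fun a b x => by
      have := hrel (.inr (a, b)) x
      simp only [r, Sum.elim_inr, Preadditive.sub_comp, Category.assoc] at this
      rw [← sub_eq_zero]
      exact this)
    have key : ∀ c, L (θ.app V c) = c := fun c => by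
      have : Epi (cokernel.π ψ) := inferInstance
      obtain ⟨y, rfl⟩ := QC.app_surjective_of_epi hV hq₁ hC (cokernel.π ψ) c
      have hy : ∀ y : Γ(F₀, V), L (φ.app V y) = (cokernel.π ψ).app V y := by
        intro y
        refine DFunLike.congr_fun (sections_coproduct_ext hV.isCompact (fun _ : B => O)
          (L.comp (φ.app V).hom) ((cokernel.π ψ).app V).hom fun b x => ?_) y
        show L ((ι b ≫ φ).app V x) = (ι b ≫ cokernel.π ψ).app V x
        rw [hι, hg, hL]
        rfl
      exact (congrArg L (congrArg (fun m : F₀ ⟶ T => m.app V y) (cokernel.π_desc ψ φ hw))).trans (hy y)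
    refine ⟨fun c c' e => (key c).symm.trans ((congrArg L e).trans (key c')), fun z => ?_⟩
    haveI := epi_bcGen A B j sq
    obtain ⟨y, rfl⟩ := QC.app_surjective_of_epi hV hq₁ hT φ z
    exact ⟨(cokernel.π ψ).app V y, congrArg (fun m : F₀ ⟶ T => m.app V y) (cokernel.π_desc ψ φ hw)⟩
  haveI := epi_bcGen A B j sq
  have hI : Subsingleton (Coh.HH P (Abelian.image ψ) 1) :=
    subsingleton_hh_of_generated A 1 hvan h (QC.isQCoh_image hq₂ hq₁ ψ) _ (Abelian.factorThruImage ψ)
  let S : ShortComplex P.Modules := ShortComplex.mk (Abelian.image.ι ψ) φ (by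
    rw [← cancel_epi (Abelian.factorThruImage ψ), ← Category.assoc, Abelian.image.fac, hw, comp_zero])
  have hS : S.ShortExact := by
    have h₀ : (ShortComplex.mk (Abelian.image.ι ψ) (cokernel.π ψ) (kernel.condition _)).ShortExact :=
      { exact := ShortComplex.exact_of_f_is_kernel _ (kernelIsKernel _) }
    exact ShortComplex.shortExact_of_iso (ShortComplex.isoMk
      (S₁ := ShortComplex.mk (Abelian.image.ι ψ) (cokernel.π ψ) (kernel.condition _)) (S₂ := S)
      (Iso.refl _) (Iso.refl _) (show cokernel ψ ≅ T from asIso θ)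
      ((Category.id_comp _).trans (Category.comp_id _).symm) ((Category.id_comp _).trans (cokernel.π_desc ψ φ hw).symm)) h₀
  intro z
  let e₂ := Sheaf.H.equiv₀ (Coh.toAb T) (isTerminalTop : IsTerminal (⊤ : P.Opens))
  obtain ⟨w, hw'⟩ := (CohFinite.δH_eq_zero_iff (CohFinite.shortExact_toAb hS) 0 (e₂.symm z)).1
    (Subsingleton.elim (α := Coh.HH P (Abelian.image ψ) 1) _ 0)
  let y : Γ(F₀, ⊤) := Sheaf.H.equiv₀ (Coh.toAb F₀) isTerminalTop w
  have hy : φ.app ⊤ y = z := by
    refine (Sheaf.H.equiv₀_naturality isTerminalTop ((SheafOfModules.toSheaf P.ringCatSheaf).map φ) w).trans ?_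
    exact (congrArg e₂ hw').trans (e₂.apply_symm_apply z)
  rw [← hy]
  refine AddSubgroup.closure_induction (p := fun y _ => φ.app ⊤ y ∈ Set.range (W7Cech.secRing B (j ⁻¹ᵁ (⊤ : P.Opens)))) ?_ ?_ ?_ ?_
    (PnReg.sections_mem_closure_sigma (fun _ : B => O) y)
  · rintro _ ⟨b, x, rfl⟩
    obtain ⟨a, rfl⟩ := hA x
    refine ⟨b * algebraMap A B a, ?_⟩
    rw [map_mul, ← W7Cech.secRing_comm A B j sq]
    exact ((congrArg (fun m : O ⟶ T => m.app ⊤ (W7Cech.secRing A (⊤ : P.Opens) a)) (hι b)).trans (hg b ⊤ _)).symm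
  · exact ⟨0, (map_zero _).trans (map_zero _).symm⟩
  · rintro a b _ _ ⟨u, hu⟩ ⟨v, hv⟩
    exact ⟨u + v, (map_add _ u v).trans ((congrArg₂ (· + ·) hu hv).trans (map_add _ a b).symm)⟩
  · rintro a _ ⟨u, hu⟩
    exact ⟨-u, (map_neg _ u).trans ((congrArg Neg.neg hu).trans (map_neg _ a).symm)⟩

end Groth.Agent.TopH1
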