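import Groth.Agent.TopH1.Core

/-!
# Vanishing of the top cohomology of the structure sheaf from the closed fibres
-/

set_option autoImplicit false
set_option backward.isDefEq.respectTransparency false
set_option backward.isDefEq.respectTransparency.types false
set_option linter.style.haveILetI false
set_option maxHeartbeats 1000000

universe u

open CategoryTheory CategoryTheory.Limits AlgebraicGeometry Opposite TopologicalSpace

noncomputable section

namespace Groth.Agent.TopH1

variable {A : Type u} [CommRing A] {X Y : Scheme.{u}} [X.Over (Spec (CommRingCat.of A))]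
  [IsProper (X ↘ Spec (CommRingCat.of A))] (f : X ⟶ Y) (ε : Y ≅ Spec (CommRingCat.of A))
  (hε : f ≫ ε.hom = X ↘ Spec (CommRingCat.of A))

include hε in
/-- The closed fibres kill the top cohomology of the structure sheaf. -/
theorem subsingleton_hh_unit (d : ℕ)
    (hd : ∀ a, topologicalKrullDim ↥((X ↘ Spec (CommRingCat.of A)).fiber a) ≤ d)
    (h : ∀ y : Y, IsClosed ({y} : Set Y) → Subsingleton (Coh.HH (f.fiber y) (Coh.structureModule (f.fiber y)) d)) :
    Subsingleton (Coh.HH X (Coh.structureModule X) d) := by
  haveI := FibVan.finite_hh_top A d hd (Coh.structureModule X) (Devissage.isCoh_unit X)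
  refine subsingleton_of_smul_top A fun m hm => ?_
  let a : Spec (CommRingCat.of A) := ⟨m, hm.isPrime⟩
  let y : Y := ε.inv a
  have hy' : ε.hom y = a := ε.inv.comp_apply ε.hom a |>.symm.trans (by simp)
  have hy : IsClosed ({y} : Set Y) := by
    have := ((PrimeSpectrum.isClosed_singleton_iff_isMaximal a).2 hm).preimage ε.hom.continuous
    convert this
    ext z
    refine ⟨fun hz => ?_, fun hz => ?_⟩
    · rw [Set.mem_singleton_iff.1 hz]; exact hy'
    · exact ε.hom.homeomorph.injective ((Set.mem_singleton_iff.1 hz).trans hy'.symm)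
  haveI := isClosed_singleton_iff_isClosedImmersion.1 hy
  let g : Spec (Y.residueField y) ⟶ Spec (CommRingCat.of A) := Y.fromSpecResidueField y ≫ ε.hom
  letI : Algebra A (Y.residueField y) := (Spec.preimage g).hom.toAlgebra
  have hg : Spec.map (CommRingCat.ofHom (algebraMap A (Y.residueField y))) = g := Spec.map_preimage g
  have hs : Function.Surjective (algebraMap A (Y.residueField y)) := by
    haveI : IsClosedImmersion (Spec.map (CommRingCat.ofHom (algebraMap A (Y.residueField y)))) := by
      rw [hg]; infer_instance
    let φ := CommRingCat.ofHom (algebraMap A (Y.residueField y))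
    have h1 := (Spec.map φ).app_surjective ⊤ (isAffineOpen_top _)
    have h2 : φ = (Scheme.ΓSpecIso _).inv ≫ (Spec.map φ).appTop ≫ (Scheme.ΓSpecIso _).hom := by
      rw [Scheme.ΓSpecIso_naturality, Iso.inv_hom_id_assoc]
    show Function.Surjective φ.hom
    rw [h2]
    exact (ConcreteCategory.bijective_of_isIso (Scheme.ΓSpecIso (Y.residueField y)).hom).2.comp
      (h1.comp (ConcreteCategory.bijective_of_isIso (Scheme.ΓSpecIso (CommRingCat.of A)).inv).2)
  have hker : RingHom.ker (algebraMap A (Y.residueField y)) = m := by
    have h0 : g (IsLocalRing.closedPoint (Y.residueField y)) = a :=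
      (Scheme.Hom.comp_apply _ _ _).trans ((congrArg ε.hom (Scheme.fromSpecResidueField_apply _ _)).trans hy')
    rw [← hg] at h0
    refine (RingHom.ker_eq_comap_bot _).trans ?_
    rw [← IsLocalRing.maximalIdeal_eq_bot]
    exact congrArg PrimeSpectrum.asIdeal h0
  letI : (f.fiber y).Over (Spec (CommRingCat.of (Y.residueField y))) := ⟨f.fiberToSpecResidueField y⟩
  have sq : IsPullback (f.fiberι y) ((f.fiber y) ↘ Spec (CommRingCat.of (Y.residueField y)))
      (X ↘ Spec (CommRingCat.of A)) (Spec.map (CommRingCat.ofHom (algebraMap A (Y.residueField y)))) := by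
    rw [hg, ← hε]
    exact (IsPullback.of_hasPullback f (Y.fromSpecResidueField y)).paste_vert
      (IsPullback.of_vert_isIso ⟨(Category.id_comp g).symm⟩ : IsPullback (Y.fromSpecResidueField y) (𝟙 _) ε.hom g)
  rw [← hker]
  exact smul_top_eq A _ (f.fiberι y) sq hs d
    (fun M hM => FibVan.subsingleton_hh_affine _ d hd M hM (d + 1) (Nat.lt_succ_self d)) (h y hy)

end Groth.Agent.TopH1
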