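import Groth.Agent.TopDegRep.Basic
import Groth.Agent.W7Hull.FibreQuot
import Groth.Agent.ModDesc.Iso
import Groth.Agent.ModDesc.Func
import Groth.Agent.Devissage.Serre
import Groth.Agent.AVVanish.Split
import Groth.Prelude.Def_ClSub2

/-!
# Right exactness of the top cohomology: closed fibres and globally generated modules
-/

set_option autoImplicit false
set_option backward.isDefEq.respectTransparency false
set_option backward.isDefEq.respectTransparency.types false
set_option linter.style.haveILetI false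
set_option maxHeartbeats 1000000
set_option synthInstance.maxHeartbeats 100000

universe u

open CategoryTheory CategoryTheory.Limits AlgebraicGeometry Opposite TopologicalSpace
open scoped TensorProduct

noncomputable section

namespace Groth.Agent.TopH1

open TopDegRep (hhFunctor)

variable (A : Type u) [CommRing A] {X : Scheme.{u}} [X.Over (Spec (CommRingCat.of A))]
  [IsProper (X ↘ Spec (CommRingCat.of A))]

/-- the structure sheaf, as a quasi-coherent module -/
abbrev unitQ (X : Scheme.{u}) : QCohCat.QCoh X := ⟨Coh.structureModule X, QC.isQCoh_unit X⟩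

theorem preservesSums (n : ℕ) (hvan : ∀ M : X.Modules, Coh.IsQCoh M → Subsingleton (Coh.HH X M (n + 1)))
    (α : Type u) : PreservesColimitsOfShape (Discrete α) (hhFunctor A X n) :=
  haveI := TopDegRep.preservesFiniteColimits A X n hvan
  TopDegRep.preservesCoproducts (hhFunctor A X n) α

include A in
/-- Globally generated modules have no top cohomology once the structure sheaf has none. -/
theorem subsingleton_hh_of_generated (n : ℕ)
    (hvan : ∀ M : X.Modules, Coh.IsQCoh M → Subsingleton (Coh.HH X M (n + 1)))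
    (h : Subsingleton (Coh.HH X (Coh.structureModule X) n)) {F : X.Modules} (hF : Coh.IsQCoh F) (α : Type u)
    (e : (∐ fun _ : α => Coh.structureModule X) ⟶ F) [Epi e] : Subsingleton (Coh.HH X F n) := by
  haveI := preservesSums A n hvan α
  haveI := TopDegRep.preservesFiniteColimits A X n hvan
  let G := hhFunctor A X n
  let P : QCohCat.QCoh X := ∐ fun _ : α => unitQ X
  let f : P ⟶ ⟨F, hF⟩ := Sigma.desc fun a =>
    ObjectProperty.homMk (Sigma.ι (fun _ : α => Coh.structureModule X) a ≫ e)
  have hf : Sigma.desc (fun a => (Sigma.ι (fun _ : α => unitQ X) a).hom) ≫ f.hom = e := by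
    refine Sigma.hom_ext _ _ fun a => ?_
    rw [Sigma.ι_desc_assoc]
    exact congrArg InducedCategory.Hom.hom (Sigma.ι_desc (fun a : α =>
      (ObjectProperty.homMk (Sigma.ι (fun _ : α => Coh.structureModule X) a ≫ e) : unitQ X ⟶ ⟨F, hF⟩)) a)
  haveI : Epi f.hom := epi_of_epi_fac hf
  haveI : Epi f := (QCohCat.isQCoh X).ι.epi_of_epi_map (show Epi ((QCohCat.isQCoh X).ι.map f) from ‹Epi f.hom›)
  have hP : IsZero (G.obj P) := by
    refine (IsZero.iff_id_eq_zero _).2
      ((isColimitOfPreserves G (colimit.isColimit (Discrete.functor fun _ : α => unitQ X))).hom_ext fun a => ?_)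
    haveI : Subsingleton (G.obj (unitQ X) : Type u) := h
    exact (ModuleCat.isZero_of_subsingleton (G.obj (unitQ X))).eq_of_src _ _
  haveI : Epi (G.map f) := inferInstance
  haveI := ModuleCat.subsingleton_of_isZero hP
  exact ((ModuleCat.epi_iff_surjective _).1 ‹Epi (G.map f)›).subsingleton

variable (B : Type u) [CommRing B] [Algebra A B] {Z : Scheme.{u}} [Z.Over (Spec (CommRingCat.of B))]
  (j : Z ⟶ X)
  (sq : IsPullback j (Z ↘ Spec (CommRingCat.of B)) (X ↘ Spec (CommRingCat.of A))
    (Spec.map (CommRingCat.ofHom (algebraMap A B))))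

omit [IsProper (X ↘ Spec (CommRingCat.of A))] in
include sq in
/-- Sections of the base change over an affine open. -/
theorem sections_baseChange (hs : Function.Surjective (algebraMap A B)) {V : X.Opens} (hV : IsAffineOpen V) :
    Function.Surjective (j.app V).hom ∧ ∀ r, (j.app V).hom r = 0 →
      r ∈ (RingHom.ker (algebraMap A B)).map (W7Cech.secRing A V) := by
  haveI := W7Cech.isAffineHom_bc A B j sq
  let π := X ↘ Spec (CommRingCat.of A)
  let π' := Z ↘ Spec (CommRingCat.of B)
  let h := Spec.map (CommRingCat.ofHom (algebraMap A B))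
  have eV : V ≤ π ⁻¹ᵁ ⊤ := le_top
  have eO : (⊤ : (Spec (CommRingCat.of B)).Opens) ≤ h ⁻¹ᵁ ⊤ := le_top
  have hUW : j ⁻¹ᵁ V = j ⁻¹ᵁ V ⊓ π' ⁻¹ᵁ ⊤ := le_antisymm (le_inf le_rfl le_top) inf_le_left
  have hP := (isIso_pushoutSection_iff sq eO eV hUW).1
    (isIso_pushoutSection_of_isAffineOpen sq eO eV hUW (isAffineOpen_top _) (isAffineOpen_top _) hV)
  letI : Algebra A ↑Γ(X, V) := (W7Cech.secRing A V).toAlgebra
  letI : Algebra B ↑Γ(Z, j ⁻¹ᵁ V) := (W7Cech.secRing B (j ⁻¹ᵁ V)).toAlgebra
  letI : Algebra ↑Γ(X, V) ↑Γ(Z, j ⁻¹ᵁ V) := (j.app V).hom.toAlgebra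
  letI : Algebra A ↑Γ(Z, j ⁻¹ᵁ V) := ((algebraMap B ↑Γ(Z, j ⁻¹ᵁ V)).comp (algebraMap A B)).toAlgebra
  haveI : IsScalarTower A B ↑Γ(Z, j ⁻¹ᵁ V) := IsScalarTower.of_algebraMap_eq fun _ => rfl
  haveI : IsScalarTower A ↑Γ(X, V) ↑Γ(Z, j ⁻¹ᵁ V) :=
    IsScalarTower.of_algebraMap_eq fun a => (W7Cech.secRing_comm A B j sq V a).symm
  haveI hpush : Algebra.IsPushout A B ↑Γ(X, V) ↑Γ(Z, j ⁻¹ᵁ V) := by
    refine CommRingCat.isPushout_iff_isPushout.1 ?_
    refine IsPushout.of_iso hP.flip (Scheme.ΓSpecIso (CommRingCat.of A))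
      (Scheme.ΓSpecIso (CommRingCat.of B)) (Iso.refl _) (Iso.refl _) ?_ ?_ ?_ ?_
    · change h.appLE ⊤ ⊤ eO ≫ _ = _
      rw [show h.appLE ⊤ ⊤ eO = h.appTop from h.app_eq_appLE.symm]
      exact Scheme.ΓSpecIso_naturality (CommRingCat.ofHom (algebraMap A B))
    · rw [← cancel_epi (Scheme.ΓSpecIso (CommRingCat.of A)).inv]
      ext a
      simp only [Iso.refl_hom, Category.comp_id, Iso.inv_hom_id_assoc]
      rfl
    · rw [← cancel_epi (Scheme.ΓSpecIso (CommRingCat.of B)).inv]
      ext a
      simp only [Iso.refl_hom, Category.comp_id, Iso.inv_hom_id_assoc]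
      rfl
    · simp only [Iso.refl_hom, Category.comp_id, Category.id_comp]
      exact (j.app_eq_appLE).symm
  obtain ⟨h1, h2⟩ := W7Hull.baseChange_of_surjective hs
    (IsScalarTower.toAlgHom A ↑Γ(X, V) ↑Γ(Z, j ⁻¹ᵁ V)).toLinearMap hpush.out
  refine ⟨h1, fun r hr => ?_⟩
  have := h2 r hr
  rw [Ideal.smul_top_eq_map, Submodule.restrictScalars_mem] at this
  exact this

include sq in
/-- The top cohomology of the structure sheaf modulo the base change. -/
theorem smul_top_eq (hs : Function.Surjective (algebraMap A B)) (n : ℕ)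
    (hvan : ∀ M : X.Modules, Coh.IsQCoh M → Subsingleton (Coh.HH X M (n + 1)))
    (hZ : Subsingleton (Coh.HH Z (Coh.structureModule Z) n)) :
    RingHom.ker (algebraMap A B) • (⊤ : Submodule A (Coh.HH X (Coh.structureModule X) n)) = ⊤ := by
  let J := RingHom.ker (algebraMap A B)
  haveI := preservesSums A n hvan J
  haveI := TopDegRep.preservesFiniteColimits A X n hvan
  let G := hhFunctor A X n
  haveI := W7Cech.isAffineHom_bc A B j sq
  haveI := QC.isQCoh_unit Z
  let T : QCohCat.QCoh X := ⟨(Scheme.Modules.pushforward j).obj (Coh.structureModule Z),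
    QC.isQCoh_pushforward j⟩
  let p : unitQ X ⟶ T := ObjectProperty.homMk (ClSub.unitToPush j)
  let sm : J → (unitQ X ⟶ unitQ X) := fun a => ObjectProperty.homMk (Formal.smulMod A (Coh.structureModule X) a.1)
  let σ : (∐ fun _ : J => unitQ X) ⟶ unitQ X := Sigma.desc sm
  have hcomm : ∀ (a : A) (V : X.Opens) (r : Γ(X, V)),
      (Formal.smulMod A (Coh.structureModule X) a).app V r = W7Cech.secRing A V a * r := fun a V r => rfl
  have hσp : σ ≫ p = 0 := Sigma.hom_ext _ _ fun a => by
    rw [Sigma.ι_desc_assoc, comp_zero]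
    refine ObjectProperty.hom_ext _ (Scheme.Modules.hom_ext _ _ fun V => ?_)
    ext r
    show (j.app V).hom ((Formal.smulMod A (Coh.structureModule X) a.1).app V r) = 0
    rw [hcomm, map_mul, W7Cech.secRing_comm A B j sq, show algebraMap A B a.1 = 0 from a.2, map_zero, zero_mul]
  let θ : cokernel σ ⟶ T := cokernel.desc σ p hσp
  have hπθ : cokernel.π σ ≫ θ = p := cokernel.π_desc _ _ _
  haveI : IsIso θ := by
    haveI : IsIso θ.hom := ModDesc.isIso_of_affine_cover (cokernel σ).property T.property θ.hom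
      (fun V : X.affineOpens => V.1) (fun V => V.2) (fun x => by
        obtain ⟨V, hV, hxV, -⟩ := exists_isAffineOpen_mem_and_subset (X := X) (U := ⊤) (x := x) trivial
        exact ⟨⟨V, hV⟩, hxV⟩) fun V => by
      obtain ⟨h1, h2⟩ := sections_baseChange A B j sq hs V.2
      have hc : ∀ r : Γ(X, V.1), θ.hom.app V.1 ((cokernel.π σ).hom.app V.1 r) = (j.app V.1).hom r := fun r =>
        congrArg (fun φ : unitQ X ⟶ T => φ.hom.app V.1 r) hπθ
      haveI : Epi ((QCohCat.isQCoh X).ι.map (cokernel.π σ)) := inferInstance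
      haveI : Epi (cokernel.π σ).hom := ‹Epi ((QCohCat.isQCoh X).ι.map (cokernel.π σ))›
      have hπ := QC.app_surjective_of_epi V.2 (QC.isQCoh_unit X) (cokernel σ).property (cokernel.π σ).hom
      refine ⟨?_, fun z => ?_⟩
      · refine (injective_iff_map_eq_zero _).2 fun c hc0 => ?_
        obtain ⟨r, rfl⟩ := hπ c
        rw [hc] at hc0
        have hr := h2 r hc0
        refine Submodule.span_induction ?_ ?_ ?_ ?_ hr
        · rintro _ ⟨a, ha, rfl⟩
          have e : sm ⟨a, ha⟩ ≫ cokernel.π σ = 0 := by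
            rw [← Sigma.ι_desc sm ⟨a, ha⟩, Category.assoc, cokernel.condition, comp_zero]
          have := congrArg (fun φ : unitQ X ⟶ cokernel σ => φ.hom.app V.1 (1 : Γ(X, V.1))) e
          rwa [show ((sm ⟨a, ha⟩ ≫ cokernel.π σ).hom.app V.1 (1 : Γ(X, V.1))) =
            (cokernel.π σ).hom.app V.1 ((Formal.smulMod A (Coh.structureModule X) a).app V.1 (1 : Γ(X, V.1))) from rfl,
            hcomm, mul_one] at this
        · exact map_zero _
        · intro x y _ _ hx hy
          exact (map_add _ x y).trans ((congrArg₂ (· + ·) hx hy).trans (add_zero _))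
        · intro c x _ hx
          exact (Scheme.Modules.Hom.app_smul (cokernel.π σ).hom c x).trans ((congrArg (c • ·) hx).trans (smul_zero _))
      · obtain ⟨r, hr⟩ := h1 z
        exact ⟨(cokernel.π σ).hom.app V.1 r, (hc r).trans hr⟩
    haveI : IsIso ((QCohCat.isQCoh X).ι.map θ) := ‹IsIso θ.hom›
    exact isIso_of_fully_faithful (QCohCat.isQCoh X).ι θ
  have hT : IsZero (G.obj T) := by
    haveI : Subsingleton (G.obj T : Type u) :=
      AVVanish.subsingleton_hh_of_affine j (Coh.structureModule Z) n hZ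
    exact ModuleCat.isZero_of_subsingleton _
  haveI : Epi (G.map σ) := Abelian.epi_of_cokernel_π_eq_zero _
    (IsZero.eq_of_tgt ((hT.of_iso (G.mapIso (asIso θ))).of_iso (PreservesCokernel.iso G σ).symm) _ _)
  let S : Submodule A (Coh.HH X (Coh.structureModule X) n) := J • ⊤
  let q : G.obj (unitQ X) ⟶ ModuleCat.of A (Coh.HH X (Coh.structureModule X) n ⧸ S) := ModuleCat.ofHom S.mkQ
  have h0 : G.map σ ≫ q = 0 := by
    refine (isColimitOfPreserves G (colimit.isColimit (Discrete.functor fun _ : J => unitQ X))).hom_ext fun ⟨a⟩ => ?_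
    rw [comp_zero, Functor.mapCocone_ι_app, ← Category.assoc, ← G.map_comp]
    erw [Sigma.ι_desc]
    refine ModuleCat.hom_ext (LinearMap.ext fun x => (Submodule.Quotient.mk_eq_zero S).2 ?_)
    exact Submodule.smul_mem_smul a.2 (Submodule.mem_top (x := x))
  have hq : q = 0 := by rw [← cancel_epi (G.map σ), h0, comp_zero]
  refine eq_top_iff.2 fun x _ => ?_
  exact (Submodule.Quotient.mk_eq_zero S).1 (LinearMap.congr_fun (congrArg ModuleCat.Hom.hom hq) x)

omit B Z j sq in
/-- Nakayama at all maximal ideals. -/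
theorem subsingleton_of_smul_top {M : Type u} [AddCommGroup M] [Module A M] [Module.Finite A M]
    (h : ∀ m : Ideal A, m.IsMaximal → m • (⊤ : Submodule A M) = ⊤) : Subsingleton M := by
  refine subsingleton_of_forall_eq 0 fun x => ?_
  by_contra hx
  obtain ⟨m, hm, hle⟩ := Ideal.exists_le_maximal (Module.annihilator A M)
    fun hann => hx (by
      have h1 : (1 : A) ∈ Module.annihilator A M := by rw [hann]; trivial
      simpa using Module.mem_annihilator.1 h1 x)
  obtain ⟨r, hr, hr0⟩ := Submodule.exists_sub_one_mem_and_smul_eq_zero_of_fg_of_le_smul m ⊤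
    Module.Finite.fg_top (h m hm).ge
  have : r ∈ m := hle (Module.mem_annihilator.2 fun y => hr0 y trivial)
  exact hm.ne_top ((Ideal.eq_top_iff_one _).2 (by simpa using m.sub_mem this hr))

end Groth.Agent.TopH1
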